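import Groth.Agent.Lib.FTorsH7.QCT
import Groth.Agent.Lib.FTorsH7.IndTors
import Groth.Agent.Lib.FinPres16.HomSpace
import Groth.Agent.Lib.FormalModH7.IndExt

/-! A coreflection onto a subcategory generated by finitely presentable objects preserves filtered colimits. -/

set_option autoImplicit false
set_option linter.style.haveILetI false
set_option linter.unusedSectionVars false
set_option backward.isDefEq.respectTransparency false
set_option backward.isDefEq.respectTransparency.types false
universe u v w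

open CategoryTheory CategoryTheory.Limits AlgebraicGeometry Opposite TopologicalSpace

noncomputable section

namespace Groth.Agent.QtColim8

section Gen

variable {C : Type w} [Category.{u} C] (P : ObjectProperty C) {Q : C ⥤ P.FullSubcategory} (adj : P.ι ⊣ Q)

include adj in
theorem bij_counit {G : C} (hG : P G) (X : C) :
    Function.Bijective fun x : G ⟶ (Q.obj X).obj => x ≫ adj.counit.app X := by
  refine ⟨fun x y h => ?_, fun z => ⟨(adj.homEquiv ⟨G, hG⟩ X z).hom, ?_⟩⟩
  · have h1 : (ObjectProperty.homMk x : (⟨G, hG⟩ : P.FullSubcategory) ⟶ Q.obj X) = ObjectProperty.homMk y := by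
      refine (adj.homEquiv ⟨G, hG⟩ X).symm.injective ?_
      rw [adj.homEquiv_counit, adj.homEquiv_counit]
      exact h
    exact congrArg (fun f : (⟨G, hG⟩ : P.FullSubcategory) ⟶ Q.obj X => f.hom) h1
  · have h1 := (adj.homEquiv ⟨G, hG⟩ X).symm_apply_apply z
    rw [adj.homEquiv_counit] at h1
    exact h1

include adj in
theorem preservesColimit_rightAdjoint {J : Type u} [SmallCategory J] [IsFiltered J] [HasColimitsOfShape J C]
    (hP : ∀ D : J ⥤ C, (∀ j, P (D.obj j)) → P (colimit D)) (K : J ⥤ C)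
    (hgen : ∀ M, P M → ∃ (I : Type u) (_ : SmallCategory I) (pres : ColimitPresentation I M),
      ∀ i, P (pres.diag.obj i) ∧ ∀ D : J ⥤ C, PreservesColimit D (coyoneda.obj (op (pres.diag.obj i)))) :
    PreservesColimit K Q where
  preserves {c} hc := by
    let E : J ⥤ C := K ⋙ Q ⋙ P.ι
    have hE : P (colimit E) := hP E fun j => (Q.obj (K.obj j)).property
    let φ : colimit E ⟶ (Q.obj c.pt).obj := colimit.desc E ((Q ⋙ P.ι).mapCocone c)
    have hφ : ∀ j, colimit.ι E j ≫ φ = (Q.map (c.ι.app j)).hom := fun j => colimit.ι_desc _ j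
    let ε : ∀ X, (Q.obj X).obj ⟶ X := fun X => adj.counit.app X
    have hbij : ∀ {G : C}, P G → ∀ X, Function.Bijective fun x : G ⟶ (Q.obj X).obj => x ≫ ε X :=
      fun hG X => bij_counit P adj hG X
    have hnat : ∀ {X Y : C} (f : X ⟶ Y), (Q.map f).hom ≫ ε Y = ε X ≫ f := fun f =>
      adj.counit.naturality f
    have hb : ∀ G, P G → (∀ D : J ⥤ C, PreservesColimit D (coyoneda.obj (op G))) →
        Function.Bijective fun x : G ⟶ colimit E => x ≫ φ := fun G hG hfp => by
      haveI := hfp E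
      haveI := hfp K
      have hcE := isColimitOfPreserves (coyoneda.obj (op G)) (colimit.isColimit E)
      have hcK := isColimitOfPreserves (coyoneda.obj (op G)) hc
      refine ⟨fun x x' hxx => ?_, fun y => ?_⟩
      · obtain ⟨j, w, rfl⟩ := Types.jointly_surjective _ hcE x
        obtain ⟨j', w', rfl⟩ := Types.jointly_surjective _ hcE x'
        obtain ⟨k, f, f', -⟩ : ∃ (k : J) (_ : j ⟶ k) (_ : j' ⟶ k), True :=
          ⟨IsFiltered.max j j', IsFiltered.leftToMax _ _, IsFiltered.rightToMax _ _, trivial⟩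
        change (w ≫ colimit.ι E j) ≫ φ = (w' ≫ colimit.ι E j') ≫ φ at hxx
        change w ≫ colimit.ι E j = w' ≫ colimit.ι E j'
        have hw : w ≫ colimit.ι E j = (w ≫ E.map f) ≫ colimit.ι E k := by rw [Category.assoc, colimit.w]
        have hw' : w' ≫ colimit.ι E j' = (w' ≫ E.map f') ≫ colimit.ι E k := by rw [Category.assoc, colimit.w]
        rw [hw, hw', Category.assoc _ _ φ, Category.assoc _ _ φ, hφ] at hxx
        have h2 := congrArg (· ≫ (ε c.pt)) hxx
        simp only [Category.assoc, hnat] at h2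
        obtain ⟨l, p, q, hpq⟩ := (Types.FilteredColimit.isColimit_eq_iff _ hcK).1
          (show ((coyoneda.obj (op G)).mapCocone c).ι.app k ((w ≫ E.map f) ≫ (ε (K.obj k))) =
            ((coyoneda.obj (op G)).mapCocone c).ι.app k ((w' ≫ E.map f') ≫ (ε (K.obj k))) by
            change (_ ≫ _) ≫ c.ι.app k = (_ ≫ _) ≫ c.ι.app k
            simp only [Category.assoc]
            exact h2)
        change ((w ≫ E.map f) ≫ (ε (K.obj k))) ≫ K.map p =
          ((w' ≫ E.map f') ≫ (ε (K.obj k))) ≫ K.map q at hpq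
        let r := IsFiltered.coeqHom p q
        have h3 : ((w ≫ E.map f) ≫ (Q.map (K.map (p ≫ r))).hom) ≫ (ε (K.obj _)) =
            ((w' ≫ E.map f') ≫ (Q.map (K.map (p ≫ r))).hom) ≫ (ε (K.obj _)) := by
          rw [Category.assoc, hnat, Category.assoc _ (Q.map _).hom, hnat]
          conv_rhs => rw [IsFiltered.coeq_condition]
          rw [K.map_comp, K.map_comp]
          simp only [← Category.assoc]
          exact congrArg (· ≫ K.map r) hpq
        rw [hw, hw', ← colimit.w E (p ≫ r), ← Category.assoc, ← Category.assoc (w' ≫ E.map f')]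
        exact congrArg (· ≫ colimit.ι E _) ((hbij hG _).1 h3)
      · obtain ⟨j, z, hz⟩ := Types.jointly_surjective _ hcK (y ≫ (ε c.pt))
        obtain ⟨w, hw⟩ := (hbij hG (K.obj j)).2 z
        refine ⟨w ≫ colimit.ι E j, (hbij hG c.pt).1 ?_⟩
        change ((w ≫ colimit.ι E j) ≫ φ) ≫ (ε c.pt) = y ≫ (ε c.pt)
        rw [Category.assoc w, hφ, Category.assoc, hnat, ← Category.assoc]
        refine Eq.trans ?_ hz
        exact congrArg (· ≫ c.ι.app j) hw
    have hM : ∀ M, P M → Function.Bijective fun x : M ⟶ colimit E => x ≫ φ := fun M hM => by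
      obtain ⟨I, _, pres, hp⟩ := hgen M hM
      refine ⟨fun x x' h => pres.isColimit.hom_ext fun i => (hb _ (hp i).1 (hp i).2).1 ?_, fun y => ?_⟩
      · simp only [Category.assoc]; exact congrArg _ h
      · choose x hx using fun i => (hb _ (hp i).1 (hp i).2).2 (pres.ι.app i ≫ y)
        refine ⟨pres.isColimit.desc (Cocone.mk (colimit E)
          { app := x, naturality := fun i i' g => (hb _ (hp i).1 (hp i).2).1 (by
              dsimp
              simp only [Category.assoc, Category.id_comp]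
              have e1 : x i' ≫ φ = pres.ι.app i' ≫ y := hx i'
              have e2 : x i ≫ φ = pres.ι.app i ≫ y := hx i
              rw [e1, e2, ← Category.assoc]
              exact congrArg (· ≫ y) ((Cocone.mk M pres.ι).w g)) }), pres.isColimit.hom_ext fun i => ?_⟩
        rw [← Category.assoc]
        exact (congrArg (· ≫ φ) (pres.isColimit.fac _ i)).trans (hx i)
    obtain ⟨s, hs⟩ := (hM _ (Q.obj c.pt).property).2 (𝟙 _)
    haveI : IsIso φ := ⟨s, (hM _ hE).1 (by simp only [Category.assoc]; rw [show s ≫ φ = 𝟙 _ from hs, Category.comp_id, Category.id_comp]), hs⟩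
    exact ⟨isColimitOfReflects P.ι (IsColimit.ofIsoColimit (colimit.isColimit E)
      (Cocone.ext (asIso φ) fun j => hφ j))⟩

end Gen

open FTorsH7 FormalModH7 ModFlat16

variable {𝔛 : FSch.Sys.{u}} (hN : 𝔛.IsLocNoethFormal)

theorem preservesColimit_isQCT [CompactSpace (𝔛.X 0)] (Q : FSch.ModF 𝔛 hN.1 ⥤ (FTors.IsQCT 𝔛 hN.1).FullSubcategory)
    (adj : (FTors.IsQCT 𝔛 hN.1).ι ⊣ Q) (J : Type u) [SmallCategory J] [IsFiltered J] (K : J ⥤ FSch.ModF 𝔛 hN.1) :
    PreservesColimit K Q := by
  refine preservesColimit_rightAdjoint (FTors.IsQCT 𝔛 hN.1) adj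
    (fun D hD => isQCT_colimit hN D _ (colimit.isColimit D) hD) K fun M hM => ?_
  obtain ⟨hMt, hMi⟩ := (isQCT_iff hN M).1 hM
  haveI := hM.2
  obtain ⟨A', C', f, hC, hf⟩ := exists_covers hN hMi
  obtain ⟨I, i₁, i₂, pres, hp, hm⟩ := exists_mono_pres hN hC hf
  refine ⟨I, i₁, pres, fun i => ⟨(isQCT_iff hN _).2
    ⟨@isTors_of_mono _ _ _ _ _ _ _ (pres.ι.app i) (hm i) hMt, ind_coh hN (hp i)⟩, fun D => ?_⟩⟩
  haveI := hp i
  refine FinPres16.preservesColimit_coyoneda_space (fun ι V hV => ?_) D _
  obtain ⟨t, ht⟩ := isCompact_univ.elim_finite_subcover (fun k => (V k : Set (𝔛.X 0))) (fun k => (V k).2) (by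
    intro x _
    exact Set.mem_iUnion.2 (Opens.mem_iSup.1 (show x ∈ iSup V from hV ▸ trivial)))
  refine ⟨t, inferInstance, fun k => V k.1, eq_top_iff.2 fun x _ => Opens.mem_iSup.2 ?_, fun k => ⟨k.1, le_rfl⟩,
    fun k k' => isCompact_opens hN _⟩
  obtain ⟨k, hk⟩ := Set.mem_iUnion.1 (ht (Set.mem_univ x))
  obtain ⟨hkt, hx⟩ := Set.mem_iUnion.1 hk
  exact ⟨⟨k, hkt⟩, hx⟩

end Groth.Agent.QtColim8
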